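import Groth.Agent.Lib.MTExt21.MaxExt
import Groth.Agent.Lib.SpreadSub19.Basic
import Mathlib.AlgebraicGeometry.Morphisms.Descent

/-!
# Base change of maximal tori
-/

set_option autoImplicit false
set_option linter.style.haveILetI false
set_option linter.unusedSectionVars false
set_option backward.isDefEq.respectTransparency.types false
set_option maxSynthPendingDepth 3

universe u

open CategoryTheory Limits MonoidalCategory CartesianMonoidalCategory MonObj AlgebraicGeometry

noncomputable section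

namespace Groth.Agent.MTExt21

open DiagGL

variable {Ω : Type u} [Field Ω] [IsAlgClosed Ω]

/-- Maximal tori transfer along compatible isomorphisms. -/
theorem isMaxTorus_transfer {T T' G G' : Over (Spec (CommRingCat.of Ω))} [GrpObj T] [GrpObj T'] [GrpObj G] [GrpObj G']
    {i : T ⟶ G} (hT : AGF.IsMaxTorus i) (eT : T' ≅ T) [IsMonHom eT.hom] (eG : G' ≅ G) [IsMonHom eG.hom]
    (i' : T' ⟶ G') (h : i' ≫ eG.hom = eT.hom ≫ i) : AGF.IsMaxTorus i' := by
  have h' := isMaxTorus_iso' hT eT
  obtain ⟨hm, hmono, htor, hmax⟩ := h'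
  haveI := hm
  haveI := hmono
  haveI : Mono eG.hom := inferInstance
  haveI : IsMonHom i' := isMonHom_of_comp' eG.hom i' (by rw [h]; infer_instance)
  haveI : Mono (i' ≫ eG.hom) := by rw [h]; infer_instance
  exact ⟨inferInstance, mono_of_mono i' eG.hom, htor, fun T'' _ j _ _ f hT'' hf =>
    hmax T'' (j ≫ eG.hom) f hT'' (by rw [← Category.assoc, hf, h])⟩

variable {S S' : Scheme.{u}} {G T : Over S} [GrpObj G] [GrpObj T]

/-- A geometric point factors through the chosen one. -/
theorem exists_factor_geomPt (k : Spec (CommRingCat.of Ω) ⟶ S) :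
    ∃ (s : S) (a : AlgebraicClosure (S.residueField s) →+* Ω),
      s = k (IsLocalRing.closedPoint Ω) ∧ k = Spec.map (CommRingCat.ofHom a) ≫ Red.geomPt s := by
  obtain ⟨⟨s, a⟩, rfl⟩ := (Scheme.SpecToEquivOfField Ω S).symm.surjective k
  letI : Algebra (S.residueField s) Ω := a.hom.toAlgebra
  let b : AlgebraicClosure (S.residueField s) →ₐ[S.residueField s] Ω := IsAlgClosed.lift
  refine ⟨s, b.toRingHom, ?_, ?_⟩
  · show s = (Spec.map a ≫ S.fromSpecResidueField s) _
    rw [Scheme.Hom.comp_apply, Scheme.fromSpecResidueField_apply]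
  · show Spec.map a ≫ S.fromSpecResidueField s = Spec.map _ ≫ Spec.map _ ≫ S.fromSpecResidueField s
    rw [← Category.assoc, ← Spec.map_comp, ← CommRingCat.ofHom_comp]
    congr 2
    exact CommRingCat.hom_ext b.comp_algebraMap.symm

theorem isMaxTorus_congr {i : T ⟶ G} {k k' : Spec (CommRingCat.of Ω) ⟶ S} (h : k = k')
    (hT : AGF.IsMaxTorus ((Over.pullback k).map i)) : AGF.IsMaxTorus ((Over.pullback k').map i) := by
  subst h; exact hT

/-- Two-step base change of maximal tori. -/
theorem isMaxTorus_bcComp {i : T ⟶ G} (f : S' ⟶ S) (k : Spec (CommRingCat.of Ω) ⟶ S')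
    (hT : AGF.IsMaxTorus ((Over.pullback (k ≫ f)).map i)) :
    AGF.IsMaxTorus ((Over.pullback k).map ((Over.pullback f).map i)) := by
  haveI := SpreadSub19.bcComp_isMonHom f k (c := k ≫ f) rfl T
  haveI := SpreadSub19.bcComp_isMonHom f k (c := k ≫ f) rfl G
  exact isMaxTorus_transfer hT (SpreadSub19.bcComp f k (c := k ≫ f) rfl T)
    (SpreadSub19.bcComp f k (c := k ≫ f) rfl G) _ (SpreadSub19.bcComp_natural f k rfl i)

/-- Two-step base change of maximal tori, in the other direction. -/
theorem isMaxTorus_bcComp' {i : T ⟶ G} (f : S' ⟶ S) (k : Spec (CommRingCat.of Ω) ⟶ S')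
    (hT : AGF.IsMaxTorus ((Over.pullback k).map ((Over.pullback f).map i))) :
    AGF.IsMaxTorus ((Over.pullback (k ≫ f)).map i) := by
  let eT := SpreadSub19.bcComp f k (c := k ≫ f) rfl T
  let eG := SpreadSub19.bcComp f k (c := k ≫ f) rfl G
  haveI : IsMonHom eT.hom := SpreadSub19.bcComp_isMonHom f k rfl T
  haveI : IsMonHom eG.hom := SpreadSub19.bcComp_isMonHom f k rfl G
  haveI : IsMonHom eT.symm.hom := isMonHom_of_comp' eT.hom eT.symm.hom (by
    rw [Iso.symm_hom, Iso.inv_hom_id]; infer_instance)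
  haveI : IsMonHom eG.symm.hom := isMonHom_of_comp' eG.hom eG.symm.hom (by
    rw [Iso.symm_hom, Iso.inv_hom_id]; infer_instance)
  refine isMaxTorus_transfer hT eT.symm eG.symm _ ?_
  rw [← cancel_mono eG.hom, Category.assoc, Category.assoc, Iso.symm_hom, Iso.inv_hom_id, Category.comp_id,
    SpreadSub19.bcComp_natural f k rfl i, Iso.symm_hom, Iso.inv_hom_id_assoc]

/-- A maximal torus is maximal at every geometric point. -/
theorem isMaxTorus_anyPt [LocallyOfFiniteType G.hom] {i : T ⟶ G} (hT : Red.IsMaximalTorus i)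
    (k : Spec (CommRingCat.of Ω) ⟶ S) : AGF.IsMaxTorus ((Over.pullback k).map i) := by
  obtain ⟨s, a, -, rfl⟩ := exists_factor_geomPt k
  letI := a.toAlgebra
  obtain ⟨hm, hmono, htor, hmax⟩ := hT
  haveI := hm
  haveI := hmono
  have hs : AGF.IsMaxTorus ((Over.pullback (Red.geomPt s)).map i) :=
    ⟨MTRigid29.isMonHom_map i _, Functor.map_mono _ _, isTorus_bc htor _,
      fun T' _ j _ _ f hT' hf => hmax s T' j f hT' hf⟩
  haveI : LocallyOfFiniteType (Red.bc (Red.geomPt s) G).hom :=
    inferInstanceAs (LocallyOfFiniteType (pullback.snd G.hom (Red.geomPt s)))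
  exact isMaxTorus_bcComp' (Red.geomPt s) _ (isMaxTorus_ext Ω hs)

/-- Maximal tori are stable under base change. -/
theorem isMaximalTorus_bc [LocallyOfFiniteType G.hom] {i : T ⟶ G} (hT : Red.IsMaximalTorus i) (f : S' ⟶ S) :
    Red.IsMaximalTorus ((Over.pullback f).map i) := by
  haveI := hT.1
  haveI := hT.2.1
  exact ⟨MTRigid29.isMonHom_map i f, Functor.map_mono _ _, isTorus_bc hT.2.2.1 f,
    fun s' T' _ j _ _ g hT' hg => (isMaxTorus_bcComp f (Red.geomPt s') (isMaxTorus_anyPt hT _)).2.2.2 T' j g hT' hg⟩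

/-- Maximality at a geometric point descends to smaller algebraically closed fields. -/
theorem isMaxTorus_of_ext {k : Type u} [Field k] {T G : Over (Spec (CommRingCat.of k))} [GrpObj T] [GrpObj G]
    {i : T ⟶ G} [IsMonHom i] [Mono i] (hT : Red.IsTorus T) (φ : Spec (CommRingCat.of Ω) ⟶ Spec (CommRingCat.of k))
    (h : AGF.IsMaxTorus ((Over.pullback φ).map i)) : AGF.IsMaxTorus i := by
  refine ⟨inferInstance, inferInstance, hT, fun T' _ j _ _ f hT' hf => ?_⟩
  haveI : IsIso ((Over.pullback φ).map f) := by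
    haveI := MTRigid29.isMonHom_map j φ
    haveI : Mono ((Over.pullback φ).map j) := Functor.map_mono _ _
    exact h.2.2.2 _ ((Over.pullback φ).map j) _ (isTorus_bc hT' φ) (by rw [← Functor.map_comp, hf])
  haveI : Surjective φ := ⟨fun z => ⟨IsLocalRing.closedPoint Ω, Subsingleton.elim _ _⟩⟩
  haveI : Flat φ := inferInstance
  have h1 : MorphismProperty.isomorphisms Scheme.{u} ((Over.pullback φ).map f).left :=
    inferInstanceAs (IsIso ((Over.forget _).map ((Over.pullback φ).map f)))
  haveI : IsIso ((Over.forget _).map f) :=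
    MorphismProperty.of_isPullback_of_descendsAlong (P := MorphismProperty.isomorphisms Scheme.{u})
      (Q := @Surjective ⊓ @Flat ⊓ @QuasiCompact) (MTRigid29.isPullback_map_left φ f).flip
      ⟨⟨MorphismProperty.pullback_fst _ _ ‹Surjective φ›, MorphismProperty.pullback_fst _ _ ‹Flat φ›⟩,
        MorphismProperty.pullback_fst _ _ (inferInstance : QuasiCompact φ)⟩ h1
  exact isIso_of_reflects_iso f (Over.forget _)

/-- Maximality descends along surjective base change. -/
theorem isMaximalTorus_of_bc {i : T ⟶ G} [IsMonHom i] [Mono i] (hT : Red.IsTorus T) (f : S' ⟶ S) [Surjective f]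
    [LocallyOfFiniteType G.hom] (h : Red.IsMaximalTorus ((Over.pullback f).map i)) : Red.IsMaximalTorus i := by
  refine ⟨inferInstance, inferInstance, hT, fun s T' _ j _ _ g hT' hg => ?_⟩
  obtain ⟨s', rfl⟩ := f.surjective s
  haveI : LocallyOfFiniteType (Red.bc f G).hom := inferInstanceAs (LocallyOfFiniteType (pullback.snd G.hom f))
  have hk := isMaxTorus_bcComp' f (Red.geomPt s') (isMaxTorus_anyPt h (Red.geomPt s'))
  obtain ⟨t, a, ht, hka⟩ := exists_factor_geomPt (Red.geomPt s' ≫ f)
  have hs : f s' = t := by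
    rw [ht, Scheme.Hom.comp_apply]
    congr 1
    exact (Scheme.fromSpecResidueField_apply s' _).symm
  subst hs
  haveI := MTRigid29.isMonHom_map i (Red.geomPt (f s'))
  haveI : Mono ((Over.pullback (Red.geomPt (f s'))).map i) := Functor.map_mono _ _
  exact (isMaxTorus_of_ext (isTorus_bc hT _) _
    (isMaxTorus_bcComp (Red.geomPt (f s')) (Spec.map (CommRingCat.ofHom a))
      (isMaxTorus_congr hka hk))).2.2.2 T' j g hT' hg

end Groth.Agent.MTExt21
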