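import Groth.Agent.Lib.MTRigid29.TrivGlobal
import Groth.Agent.Lib.MTRigid29.HomLocus
import Groth.Agent.Lib.TorPts21.Split
import Groth.Prelude.Def_AGF

/-!
# Elementary facts about tori
-/

set_option autoImplicit false
set_option linter.style.haveILetI false
set_option linter.unusedSectionVars false
set_option backward.isDefEq.respectTransparency.types false
set_option maxSynthPendingDepth 3

universe u

open CategoryTheory Limits MonoidalCategory CartesianMonoidalCategory MonObj AlgebraicGeometry

noncomputable section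

namespace Groth.Agent.MTExt21

open DiagGL

variable {S : Scheme.{u}}

/-- A factor of a homomorphism through a monomorphism is a homomorphism. -/
theorem isMonHom_of_comp' {A B C : Over S} [GrpObj A] [GrpObj B] [GrpObj C] (j : B ⟶ C) [IsMonHom j] [Mono j]
    (l : A ⟶ B) (h : IsMonHom (l ≫ j)) : IsMonHom l :=
  haveI := h
  TorsorSch25.isMonHom_of_points l fun X a b => (cancel_mono j).1 (by
    rw [MonObj.mul_comp (a ≫ l) (b ≫ l) j, Category.assoc, Category.assoc, Category.assoc,
      MonObj.mul_comp a b (l ≫ j)])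

/-- Tori stay tori under base change. -/
theorem isTorus_bc {S₁ : Scheme.{u}} {T : Over S} [GrpObj T] (hT : Red.IsTorus T) (q : S₁ ⟶ S) :
    Red.IsTorus (Red.bc q T) := by
  obtain ⟨S', f, hflat, hsurj, hcov, hloc⟩ := hT
  refine ⟨pullback q f, pullback.fst q f, MorphismProperty.pullback_fst _ _ hflat,
    MorphismProperty.pullback_fst _ _ hsurj, MTRigid29.cover_pullback f q hcov, fun t => ?_⟩
  obtain ⟨U, hU, r, ⟨e⟩⟩ := hloc (pullback.snd q f t)
  let V : (pullback q f).Opens := pullback.snd q f ⁻¹ᵁ U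
  let b : (V : Scheme.{u}) ⟶ (U : Scheme.{u}) := pullback.snd q f ∣_ U
  have w : (V.ι ≫ pullback.fst q f) ≫ q = b ≫ (U.ι ≫ f) := by
    rw [Category.assoc, pullback.condition, ← Category.assoc b, morphismRestrict_ι, Category.assoc]
  exact ⟨V, hU, r,
    MTRigid29.nonempty_grpIso_of_chars (MTRigid29.charsFactor w T ((charsDS (U : Scheme.{u}) (Fin r → ℤ)).transport e))
      (charsDS _ (Fin r → ℤ))⟩

/-- Maximal tori are invariant under isomorphisms of the source. -/
theorem isMaxTorus_iso' {K : Type u} [Field K] [IsAlgClosed K] {T T' G : Over (Spec (CommRingCat.of K))}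
    [GrpObj T] [GrpObj T'] [GrpObj G] {iT : T ⟶ G}
    (hT : AGF.IsMaxTorus iT) (e : T' ≅ T) [IsMonHom e.hom] : AGF.IsMaxTorus (e.hom ≫ iT) := by
  obtain ⟨hm, hmono, htor, hmax⟩ := hT
  haveI := hm
  haveI := hmono
  obtain ⟨r, ⟨C⟩⟩ := TorPts21.exists_chars htor
  refine ⟨inferInstance, mono_comp _ _, TorPts21.isTorus_of_chars (C.transport (Grp.mkIso' e)),
    fun T'' _ j _ _ f hT'' h => ?_⟩
  haveI : IsIso e.inv := e.isIso_inv
  haveI := hmax T'' j (e.inv ≫ f) hT'' (by rw [Category.assoc, h, e.inv_hom_id_assoc])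
  exact IsIso.of_isIso_comp_left e.inv f

end Groth.Agent.MTExt21
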