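import Groth.Agent.Lib.MTExt21.Spread
import Groth.Agent.Lib.MTRigid29.MonoNhd
import Groth.Agent.Lib.MTRigid29.HomFun
import Groth.Agent.Lib.MTRigid29.MapChS
import Groth.Agent.Lib.MTRigid29.NormalCentral
import Groth.Agent.Lib.MTRigid29.MonoClosedGlobal
import Groth.Agent.Lib.MTRigid29.HomLocus
import Groth.Agent.Lib.MTExt21.Torus
import Groth.Agent.Lib.AbRigid.GrpTop
import Groth.Prelude.Def_AGF
import Mathlib.AlgebraicGeometry.AlgClosed.Basic

/-!
# Maximal tori over an algebraically closed field stay maximal over its extensions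
-/

set_option autoImplicit false
set_option linter.style.haveILetI false
set_option linter.unusedSectionVars false
set_option backward.isDefEq.respectTransparency.types false
set_option maxSynthPendingDepth 3

universe u

open CategoryTheory Limits MonoidalCategory CartesianMonoidalCategory MonObj AlgebraicGeometry Opposite

noncomputable section

namespace Groth.Agent.MTExt21

open DiagGL MTRigid29 FieldExt12 AutFam

variable {S : Scheme.{u}} {P G : Over S} [GrpObj P] [GrpObj G]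

/-- A family is injective at a parameter. -/
def FamMono {B C : Over S} (s : P ⊗ B ⟶ G) (g : C ⟶ B) : Prop :=
  ∀ (X : Over S) (t : X ⟶ C) (a : X ⟶ P), lift a (t ≫ g) ≫ s = 1 → a = 1

variable (B : Over S) (s : P ⊗ B ⟶ G)

/-- The family as a morphism over its parameter scheme. -/
def famHom : Red.bc B.hom P ⟶ Red.bc B.hom G :=
  (Over.mapPullbackAdj B.hom).homEquiv _ _
    (lift (fl B.hom P (𝟙 (Red.bc B.hom P)))
      ((Over.map B.hom).map (toUnit _) ≫
        (Over.homMk (𝟙 _) (by show 𝟙 B.left ≫ B.hom = 𝟙 B.left ≫ B.hom; rfl) :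
          (Over.map B.hom).obj (𝟙_ (Over B.left)) ⟶ B)) ≫ s)

theorem fl_famHom {Y : Over B.left} (x : Y ⟶ Red.bc B.hom P) :
    fl B.hom G (x ≫ famHom B s) = lift (fl B.hom P x)
      ((Over.map B.hom).map (toUnit Y) ≫
        (Over.homMk (𝟙 _) (by show 𝟙 B.left ≫ B.hom = 𝟙 B.left ≫ B.hom; rfl) :
          (Over.map B.hom).obj (𝟙_ (Over B.left)) ⟶ B)) ≫ s := by
  rw [fl_comp, famHom, show fl B.hom G ((Over.mapPullbackAdj B.hom).homEquiv _ _ _) = _ from
    Equiv.symm_apply_apply _ _, comp_lift_assoc, ← fl_comp, Category.comp_id, ← Category.assoc,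
    ← Functor.map_comp, toUnit_unique (x ≫ toUnit _) (toUnit Y)]

theorem isMonHom_famHom (hs : IsHomFamily P G s) : IsMonHom (famHom B s) :=
  TorsorSch25.isMonHom_of_points _ fun Y a b => fl_injective B.hom G (by
    rw [fl_mul, fl_famHom, fl_famHom, fl_famHom, fl_mul]
    exact hs _ _ _ _)

theorem monic_of_famMono {C : Over S} (g : C ⟶ B) (h : FamMono s g) : Monic (famHom B s) g.left := by
  intro T x hx
  let X := (Over.map B.hom).obj ((Over.map g.left).obj T)
  let t : X ⟶ C := Over.homMk T.hom (by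
    show T.hom ≫ C.hom = (T.hom ≫ g.left) ≫ B.hom
    rw [Category.assoc, Over.w g])
  refine fl_injective B.hom P ?_
  rw [fl_one]
  refine h X t _ ?_
  have h1 := congrArg (fl B.hom G) hx
  rw [fl_famHom, fl_one] at h1
  rw [show t ≫ g = (Over.map B.hom).map (toUnit ((Over.map g.left).obj T)) ≫
    (Over.homMk (𝟙 _) (by show 𝟙 B.left ≫ B.hom = 𝟙 B.left ≫ B.hom; rfl) :
      (Over.map B.hom).obj (𝟙_ (Over B.left)) ⟶ B) from
    Over.OverMorphism.ext (Category.comp_id (T.hom ≫ g.left)).symm]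
  exact h1

theorem famMono_of_monic {C : Over S} (g : C ⟶ B) (h : Monic (famHom B s) g.left) : FamMono s g := by
  intro X t a ha
  let T : Over C.left := Over.mk t.left
  let i : (Over.map B.hom).obj ((Over.map g.left).obj T) ≅ X := Over.isoMk (Iso.refl _) (by
    show 𝟙 _ ≫ X.hom = (t.left ≫ g.left) ≫ B.hom
    rw [Category.id_comp, Category.assoc, Over.w g, Over.w t])
  obtain ⟨x, hx⟩ := fl_surjective B.hom P (i.hom ≫ a)
  have h1 : x ≫ famHom B s = 1 := fl_injective B.hom G (by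
    rw [fl_famHom, hx, fl_one, show (Over.map B.hom).map (toUnit ((Over.map g.left).obj T)) ≫
      (Over.homMk (𝟙 _) (by show 𝟙 B.left ≫ B.hom = 𝟙 B.left ≫ B.hom; rfl) :
        (Over.map B.hom).obj (𝟙_ (Over B.left)) ⟶ B) = i.hom ≫ t ≫ g from
      Over.OverMorphism.ext ((Category.comp_id (t.left ≫ g.left)).trans (Category.id_comp _).symm),
      ← comp_lift_assoc, ha, MonObj.comp_one])
  rw [h T x h1, fl_one] at hx
  exact (cancel_epi i.hom).1 (by rw [← hx, MonObj.comp_one])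

set_option maxHeartbeats 2000000 in
/-- Maximal tori over an algebraically closed field stay maximal over algebraically closed extensions. -/
theorem isMaxTorus_ext {k : Type u} [Field k] [IsAlgClosed k] (K : Type u) [Field K] [IsAlgClosed K] [Algebra k K]
    {T G : Over (Spec (CommRingCat.of k))} [GrpObj T] [GrpObj G] [LocallyOfFiniteType G.hom] {i : T ⟶ G}
    (h : AGF.IsMaxTorus i) :
    AGF.IsMaxTorus ((Over.pullback (Spec.map (CommRingCat.ofHom (algebraMap k K)))).map i) := by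
  obtain ⟨hm, hmono, hT, hmax⟩ := h
  haveI := hm
  haveI := hmono
  let ψ : Spec (CommRingCat.of K) ⟶ Spec (CommRingCat.of k) := Spec.map (CommRingCat.ofHom (algebraMap k K))
  haveI : IsMonHom ((Over.pullback ψ).map i) := MTRigid29.isMonHom_map i ψ
  refine ⟨inferInstance, Functor.map_mono _ _, isTorus_bc hT ψ, fun T' _ j _ _ f hT' hf => ?_⟩
  haveI : Mono ((Over.pullback ψ).map i) := Functor.map_mono _ _
  haveI : IsMonHom (f ≫ j) := hf.symm ▸ ‹IsMonHom ((Over.pullback ψ).map i)›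
  haveI : IsMonHom f := TorsorSch25.isMonHom_of_points f fun X a b => (cancel_mono j).1 (by
    rw [MonObj.mul_comp (a ≫ f) (b ≫ f) j, Category.assoc, Category.assoc, Category.assoc, MonObj.mul_comp a b (f ≫ j)])
  obtain ⟨r, ⟨C⟩⟩ := TorPts21.exists_chars hT
  obtain ⟨r', ⟨D⟩⟩ := TorPts21.exists_chars hT'
  obtain ⟨α, hα⟩ := exists_mapChS_field (C.baseChange ψ T) D f
  let P : Over (Spec (CommRingCat.of k)) := Red.DS (Spec (CommRingCat.of k)) (Fin r' → ℤ)
  let E : Chars (Fin r' → ℤ) P := charsDS _ _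
  haveI : AddGroup.FG (Fin r' → ℤ) := AddGroup.fg_iff_addMonoid_fg.2 inferInstance
  have hP := isMultTypeFT_of_chars E
  haveI := isAffineHom_of_isMultTypeFT hP
  haveI := lfp_of_isMultTypeFT hP
  haveI : IsAffine P.left := isAffine_of_isAffineHom P.hom
  haveI : IsAffineHom (P ⊗ P).hom :=
    MorphismProperty.comp_mem _ _ _ (MorphismProperty.pullback_fst P.hom P.hom inferInstance) ‹_›
  haveI : IsAffine (P ⊗ P).left := isAffine_of_isAffineHom (P ⊗ P).hom
  haveI := isAffineHom_of_isMultTypeFT (isMultTypeFT_of_torus hT)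
  haveI hTa : IsAffine T.left := isAffine_of_isAffineHom T.hom
  haveI : IsLocallyNoetherian G.left := LocallyOfFiniteType.isLocallyNoetherian G.hom
  haveI : LocallyOfFinitePresentation G.hom := LocallyOfFinitePresentation.iff_locallyOfFiniteType.2 inferInstance
  haveI : IsSeparated G.hom := AbRigid.isSeparated_of_grpObj G
  let w₀ : T ⟶ P := mapChS C E α
  let e : Red.bc ψ P ⟶ T' := mapChS (E.baseChange ψ P) D (AddMonoidHom.id _)
  haveI : IsMonHom e := isMonHom_mapChS _ _ _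
  haveI : IsIso e := ⟨mapChS D (E.baseChange ψ P) (AddMonoidHom.id _), by
    rw [mapChS_comp]; exact mapChS_id _, by rw [mapChS_comp]; exact mapChS_id _⟩
  have hwe : (Over.pullback ψ).map w₀ ≫ e = f := by
    rw [hα, pullback_map_mapChS, mapChS_comp]
    rfl
  let je : Red.bc ψ P ⟶ Red.bc ψ G := e ≫ j
  haveI : IsMonHom je := inferInstanceAs (IsMonHom (e ≫ j))
  haveI : Mono je := mono_comp e j
  let jK : top' k K ⟶ (Over.map ψ).obj (𝟙_ (Over (Spec (CommRingCat.of K)))) :=
    Over.homMk (𝟙 _) (by show 𝟙 _ ≫ 𝟙 _ ≫ ψ = ψ; simp)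
  let F₀ : P ⊗ (Over.map ψ).obj (𝟙_ (Over (Spec (CommRingCat.of K)))) ⟶ G := famUp ψ (fst _ _ ≫ je)
  let F : P ⊗ top' k K ⟶ G := (P ◁ jK) ≫ F₀
  have hF : IsHomFamily P G F := isHomFamily_comp jK ((isHomFamily_famUp_iff ψ _).2 fun X g₁ g₂ t => by
    simp only [lift_fst_assoc, MonObj.mul_comp])
  have hFpt : ∀ {X : Over (Spec (CommRingCat.of k))} (a : X ⟶ P) (t : X ⟶ top' k K)
      (a₁ : Over.mk ((t ≫ jK).left ≫ 𝟙 _) ⟶ Red.bc ψ P),
      fl ψ P a₁ = (mapObjIso ψ (t ≫ jK)).hom ≫ a →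
      fl ψ G (a₁ ≫ je) = (mapObjIso ψ (t ≫ jK)).hom ≫ lift a t ≫ F := fun {X} a t a₁ ha => by
    rw [show a₁ ≫ je = lift a₁ (mapObjLift ψ (t ≫ jK)) ≫ fst _ _ ≫ je from (lift_fst_assoc _ _ _).symm,
      fl_lift_comp, ha, map_mapObjLift, ← comp_lift_assoc, lift_whiskerLeft_assoc]
  have hFmono : FamMono F (𝟙 (top' k K)) := fun X t a hz => by
    obtain ⟨a₁, ha⟩ := fl_surjective ψ P ((mapObjIso ψ (t ≫ jK)).hom ≫ a)
    have h1 : a₁ ≫ je = 1 := fl_injective ψ G (by
      rw [Category.comp_id] at hz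
      rw [hFpt a t a₁ ha, hz, MonObj.comp_one, fl_one])
    rw [← MonObj.one_comp je, cancel_mono] at h1
    rw [h1, fl_one] at ha
    exact (cancel_epi _).1 (by rw [← ha, MonObj.comp_one])
  have hFi : lift (fst T (top' k K) ≫ w₀) (snd T (top' k K)) ≫ F = fst T (top' k K) ≫ i := by
    let t := snd T (top' k K)
    obtain ⟨a₁, ha⟩ := fl_surjective ψ T ((mapObjIso ψ (t ≫ jK)).hom ≫ fst T (top' k K))
    have h1 := hFpt (fst T (top' k K) ≫ w₀) t (a₁ ≫ (Over.pullback ψ).map w₀) (by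
      rw [fl_comp_map, ha, Category.assoc])
    rw [Category.assoc, show (Over.pullback ψ).map w₀ ≫ je = (Over.pullback ψ).map i by
      rw [← Category.assoc, hwe, hf], fl_comp_map, ha, Category.assoc] at h1
    exact ((cancel_epi _).1 h1).symm
  -- spread out
  obtain ⟨i₀, s₀, hs₀⟩ := exists_stage (R := k) (K := K) F
  obtain ⟨l, a, hl⟩ := exists_stage_eq (R := k) (K := K)
    (lift ((fst (P ⊗ P) (stg i₀) ≫ fst P P) * (fst (P ⊗ P) (stg i₀) ≫ snd P P)) (snd (P ⊗ P) (stg i₀)) ≫ s₀)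
    ((lift (fst (P ⊗ P) (stg i₀) ≫ fst P P) (snd (P ⊗ P) (stg i₀)) ≫ s₀) *
      (lift (fst (P ⊗ P) (stg i₀) ≫ snd P P) (snd (P ⊗ P) (stg i₀)) ≫ s₀)) (by
    simp only [MonObj.comp_mul, comp_lift_assoc, whiskerLeft_fst_assoc, whiskerLeft_snd]
    simp only [← lift_whiskerLeft_assoc, hs₀]
    exact hF _ _ _ _)
  let s₁ : P ⊗ stg l ⟶ G := (P ◁ trn a) ≫ s₀
  have hs₁ : IsHomFamily P G s₁ := fun X g₁ g₂ t => by
    have := congrArg (lift (lift g₁ g₂) t ≫ ·) hl
    simp only [MonObj.comp_mul, comp_lift_assoc, whiskerLeft_fst_assoc, whiskerLeft_snd, lift_fst_assoc,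
      lift_snd_assoc, lift_fst, lift_snd] at this
    simp only [s₁, lift_whiskerLeft_assoc]
    exact this
  have hs₁F : (P ◁ prj l) ≫ s₁ = F := by
    rw [← hs₀, ← MonoidalCategory.whiskerLeft_comp_assoc, prj_trn]
  obtain ⟨m, b, hb⟩ := exists_stage_eq (R := k) (K := K)
    (lift (fst T (stg l) ≫ w₀) (snd T (stg l)) ≫ s₁) (fst T (stg l) ≫ i) (by
    simp only [comp_lift_assoc, whiskerLeft_fst_assoc, whiskerLeft_snd]
    simp only [← lift_whiskerLeft_assoc, hs₁F]
    exact hFi)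
  let s₂ : P ⊗ stg m ⟶ G := (P ◁ trn b) ≫ s₁
  have hs₂ : IsHomFamily P G s₂ := isHomFamily_comp (trn b) hs₁
  have hs₂F : (P ◁ prj m) ≫ s₂ = F := by
    rw [← hs₁F, ← MonoidalCategory.whiskerLeft_comp_assoc, prj_trn]
  -- injectivity near the generic point
  haveI := isMonHom_famHom (stg m) s₂ hs₂
  have hη : Monic (famHom (stg m) s₂) (prj m).left := monic_of_famMono (stg m) s₂ _ fun X t x hx =>
    hFmono X t x (by rw [Category.comp_id, ← hs₂F, lift_whiskerLeft_assoc, hx])
  have hres : Monic (famHom (stg m) s₂)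
      ((stg m).left.fromSpecResidueField ((prj m).left (IsLocalRing.closedPoint K))) :=
    monic_of_mono _ _ (mapP_residue_of_field (MorphismProperty.monomorphisms Scheme.{u}) _ _
      (mono_pullback_of_monic _ _ hη))
  have hPm : SGA3x.IsMultTypeFT (Red.bc (stg m).hom P) := isMultTypeFT_bc hP _
  haveI : IsSeparated (Red.bc (stg m).hom G).hom := MorphismProperty.pullback_snd G.hom _ ‹_›
  obtain ⟨U, hηU, hU⟩ := exists_nhd_monic (famHom (stg m) s₂) hPm _ hres
  haveI hft : LocallyOfFiniteType (stg m).hom := by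
    show LocallyOfFiniteType (Spec.map (CommRingCat.ofHom (algebraMap k m.unop.1)))
    exact (HasRingHomProperty.Spec_iff (P := @LocallyOfFiniteType)).2
      (RingHom.finiteType_algebraMap.2 ((Subalgebra.fg_iff_finiteType m.unop.1).1 m.unop.2))
  haveI : JacobsonSpace ↥(stg m).left := LocallyOfFiniteType.jacobsonSpace (stg m).hom
  obtain ⟨z, hzU, hz⟩ := nonempty_inter_closedPoints (Z := (U : Set (stg m).left)) ⟨_, hηU⟩ U.2.isLocallyClosed
  let zl := pointOfClosedPoint (stg m).hom z hz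
  let x : 𝟙_ (Over (Spec (CommRingCat.of k))) ⟶ stg m :=
    Over.homMk zl (pointOfClosedPoint_comp (stg m).hom z hz)
  have hxU : Set.range zl ⊆ Set.range U.ι := by
    rintro _ ⟨y, rfl⟩
    rw [pointOfClosedPoint_apply, Scheme.Opens.range_ι]
    exact hzU
  have hxmono : FamMono s₂ x := famMono_of_monic (stg m) s₂ x (by
    have := monic_comp (famHom (stg m) s₂) hU (IsOpenImmersion.lift U.ι zl hxU)
    rwa [IsOpenImmersion.lift_fac] at this)
  -- specialise
  let hh : P ⟶ G := lift (𝟙 P) (toUnit P ≫ x) ≫ s₂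
  have hhpt : ∀ {X : Over (Spec (CommRingCat.of k))} (p : X ⟶ P), p ≫ hh = lift p (toUnit X ≫ x) ≫ s₂ :=
    fun {X} p => by
      rw [comp_lift_assoc, Category.comp_id, ← Category.assoc p, toUnit_unique (p ≫ toUnit P) (toUnit X)]
  haveI : IsMonHom hh := TorsorSch25.isMonHom_of_points hh fun X p q => by
    rw [hhpt, hhpt, hhpt]
    exact hs₂ X p q _
  haveI : Mono hh := ⟨fun {X} p q hpq => by
    have h1 : lift (p * q⁻¹) (toUnit X ≫ x) ≫ s₂ = 1 := by
      rw [← hhpt, MonObj.mul_comp, GrpObj.inv_comp, hpq, mul_inv_cancel]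
    exact mul_inv_eq_one.1 (hxmono X (toUnit X) _ h1)⟩
  have hw : w₀ ≫ hh = i := by
    rw [hhpt]
    have := congrArg (lift (𝟙 T) (toUnit T ≫ x) ≫ ·) hb
    simp only [comp_lift_assoc, whiskerLeft_fst_assoc, whiskerLeft_snd, lift_fst_assoc, lift_snd_assoc,
      lift_fst, lift_snd, Category.id_comp] at this
    simp only [s₂, lift_whiskerLeft_assoc]
    simpa only [Category.assoc] using this
  haveI : IsIso w₀ := hmax P hh w₀ (TorPts21.isTorus_of_chars E) hw
  rw [← hwe]
  infer_instance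

end Groth.Agent.MTExt21
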