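import Groth.Agent.Lib.FieldExt12.Model
import Groth.Agent.Lib.Descend.Basic

/-!
# Morphisms from a product with a field are defined over a finitely generated subalgebra
-/

set_option autoImplicit false
set_option linter.style.haveILetI false
set_option linter.unusedSectionVars false
set_option backward.isDefEq.respectTransparency false
set_option backward.isDefEq.respectTransparency.types false
set_option backward.defeqAttrib.useBackward true

universe u

open CategoryTheory CategoryTheory.Limits MonoidalCategory CartesianMonoidalCategory AlgebraicGeometry Opposite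

noncomputable section

namespace Groth.Agent.MTExt21

open FieldExt12

variable {R K : Type u} [CommRing R] [CommRing K] [Algebra R K]

/-- The spectrum of a finitely generated subalgebra. -/
abbrev stg (i : (Idx R K)ᵒᵖ) : Over (Spec (CommRingCat.of R)) := Over.mk ((str R K).app i)

variable (R K) in
/-- The spectrum of the algebra. -/
abbrev top' : Over (Spec (CommRingCat.of R)) :=
  Over.mk (Spec.map (CommRingCat.ofHom (algebraMap R K)))

/-- The projection to a stage. -/
def prj (i : (Idx R K)ᵒᵖ) : top' R K ⟶ stg i := Over.homMk ((cone R K).π.app i) (cone_str R K i)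

/-- The transition maps. -/
def trn {i j : (Idx R K)ᵒᵖ} (a : i ⟶ j) : stg i ⟶ stg j :=
  Over.homMk ((sys R K).map a) (by
    show (sys R K).map a ≫ (str R K).app j = (str R K).app i
    exact Descend.t_nat _ (str R K) a)

theorem prj_trn {i j : (Idx R K)ᵒᵖ} (a : i ⟶ j) : prj (R := R) (K := K) i ≫ trn a = prj j :=
  Over.OverMorphism.ext ((cone R K).w a)

variable {X G : Over (Spec (CommRingCat.of R))}

theorem whiskerLeft_left {B B' : Over (Spec (CommRingCat.of R))} (a : B ⟶ B') (l : pullback X.hom B.hom ⟶ pullback X.hom B'.hom)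
    (h₁ : l ≫ pullback.fst X.hom B'.hom = pullback.fst X.hom B.hom)
    (h₂ : l ≫ pullback.snd X.hom B'.hom = pullback.snd X.hom B.hom ≫ a.left) : (X ◁ a).left = l := by
  refine pullback.hom_ext ?_ ?_
  · rw [h₁]
    exact congrArg CommaMorphism.left (whiskerLeft_fst X a)
  · rw [h₂]
    exact congrArg CommaMorphism.left (whiskerLeft_snd X a)

variable [CompactSpace X.left] [QuasiSeparatedSpace X.left]

theorem hq (j : (Idx R K)ᵒᵖ) :
    (cone R K).π.app j ≫ (str R K).app j = Spec.map (CommRingCat.ofHom (algebraMap R K)) := cone_str R K j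

/-- A morphism from the product with the algebra comes from a stage. -/
theorem exists_stage [LocallyOfFinitePresentation G.hom] (F : X ⊗ top' R K ⟶ G) :
    ∃ (i : (Idx R K)ᵒᵖ) (s : X ⊗ stg i ⟶ G), (X ◁ prj i) ≫ s = F := by
  let c' := Descend.pbCone (sys R K) (str R K) X.hom (cone R K) (hq (R := R) (K := K))
    (IsPullback.of_hasPullback X.hom (Spec.map (CommRingCat.ofHom (algebraMap R K))))
  let tE : Descend.pbDiagram (sys R K) (str R K) X.hom ⟶ (Functor.const _).obj (Spec (CommRingCat.of R)) :=
    Descend.pbFst (sys R K) (str R K) X.hom ≫ (Functor.const _).map X.hom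
  have hc' : IsLimit c' := Descend.pbIsLimit (sys R K) (str R K) X.hom (cone R K) _ _ (isLimitCone R K)
  obtain ⟨i, g, hg, hgG⟩ := Scheme.exists_π_app_comp_eq_of_locallyOfFinitePresentation
    (Descend.pbDiagram (sys R K) (str R K) X.hom) tE G.hom c' hc' F.left (by
      ext j
      show c'.π.app j ≫ pullback.fst X.hom ((str R K).app j) ≫ X.hom = F.left ≫ G.hom
      rw [Over.w F, ← Category.assoc]
      erw [Descend.pbCone_fst]
      rfl)
  refine ⟨i, Over.homMk g (hgG.trans rfl), Over.OverMorphism.ext ?_⟩
  rw [Over.comp_left, whiskerLeft_left (prj (R := R) (K := K) i) (c'.π.app i)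
    (Descend.pbCone_fst (sys R K) (str R K) X.hom (cone R K) _ _ i)
    (Descend.pbCone_snd (sys R K) (str R K) X.hom (cone R K) _ _ i)]
  exact hg

/-- Morphisms agreeing over the algebra agree over a stage. -/
theorem exists_stage_eq [LocallyOfFiniteType G.hom] {i : (Idx R K)ᵒᵖ} (s s' : X ⊗ stg i ⟶ G)
    (h : (X ◁ prj i) ≫ s = (X ◁ prj i) ≫ s') :
    ∃ (j : (Idx R K)ᵒᵖ) (a : j ⟶ i), (X ◁ trn a) ≫ s = (X ◁ trn a) ≫ s' := by
  let c' := Descend.pbCone (sys R K) (str R K) X.hom (cone R K) (hq (R := R) (K := K))
    (IsPullback.of_hasPullback X.hom (Spec.map (CommRingCat.ofHom (algebraMap R K))))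
  let tE : Descend.pbDiagram (sys R K) (str R K) X.hom ⟶ (Functor.const _).obj (Spec (CommRingCat.of R)) :=
    Descend.pbFst (sys R K) (str R K) X.hom ≫ (Functor.const _).map X.hom
  have hc' : IsLimit c' := Descend.pbIsLimit (sys R K) (str R K) X.hom (cone R K) _ _ (isLimitCone R K)
  have hl : (X ◁ prj (R := R) (K := K) i).left = c'.π.app i := whiskerLeft_left _ _
    (Descend.pbCone_fst (sys R K) (str R K) X.hom (cone R K) _ _ i)
    (Descend.pbCone_snd (sys R K) (str R K) X.hom (cone R K) _ _ i)
  obtain ⟨j, a, hj⟩ := Scheme.exists_hom_comp_eq_comp_of_locallyOfFiniteType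
    (Descend.pbDiagram (sys R K) (str R K) X.hom) tE G.hom c' hc' s.left s'.left
    (Over.w s).symm (Over.w s').symm (by
      rw [← hl]
      exact congrArg CommaMorphism.left h)
  refine ⟨j, a, Over.OverMorphism.ext ?_⟩
  rw [Over.comp_left, Over.comp_left, whiskerLeft_left (trn a)
    ((Descend.pbDiagram (sys R K) (str R K) X.hom).map a)
    (Descend.pbMap_fst (sys R K) (str R K) X.hom a) (Descend.pbMap_snd (sys R K) (str R K) X.hom a)]
  exact hj

end Groth.Agent.MTExt21
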